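import Groth.Agent.SpecTop.Cons

/-! Generalisation closures of compact sets; constructible topology from a basis. -/

set_option autoImplicit false

open Set Topology TopologicalSpace

namespace Groth.Agent.SpecTop.Gen

open Groth.Agent.SpecTop.Cons

theorem genClosure_eq {X : Type*} [TopologicalSpace X] [SpectralSpace X] {E : Set X} (hE : IsCompact E) :
    {x | ∃ e ∈ E, x ⤳ e} = ⋂₀ {U : Set X | (IsOpen U ∧ IsCompact U) ∧ E ⊆ U} := by
  ext x
  refine ⟨fun ⟨e, he, hxe⟩ U ⟨⟨hU, _⟩, hEU⟩ => hxe.mem_open hU (hEU he), fun hx => ?_⟩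
  by_contra hcon
  simp only [mem_setOf_eq, not_exists, not_and] at hcon
  have h : ∀ e : E, ∃ U, IsOpen U ∧ IsCompact U ∧ (e : X) ∈ U ∧ x ∉ U := by
    intro e
    obtain ⟨W, hW, heW, hxW⟩ := not_specializes_iff_exists_open.mp (hcon e e.2)
    obtain ⟨U, h1, h2, h3, h4⟩ := exists_qcOpen hW heW
    exact ⟨U, h1, h2, h3, fun h => hxW (h4 h)⟩
  choose U h1 h2 h3 h4 using h
  obtain ⟨t, ht⟩ := hE.elim_finite_subcover U h1 (fun e he => mem_iUnion.mpr ⟨⟨e, he⟩, h3 _⟩)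
  obtain ⟨e, he, hxe⟩ := mem_iUnion₂.mp (hx _ ⟨⟨isOpen_biUnion fun e _ => h1 e,
    t.isCompact_biUnion fun e _ => h2 e⟩, ht⟩)
  exact h4 e hxe

theorem cons_eq_of_basis {X : Type*} (τ : TopologicalSpace X) [TopologicalSpace X] [SpectralSpace X]
    (hc : @CompactSpace X τ) {B : Set (Set X)} (hB : IsTopologicalBasis B)
    (ho : ∀ U ∈ B, IsOpen[τ] U) (hcl : ∀ U ∈ B, IsClosed[τ] U) : constructibleTopology X = τ := by
  refine cons_eq τ hc fun U hU hUc => ⟨le_of_basis hB ho _ hU, ?_⟩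
  obtain ⟨S, hS, rfl⟩ := hB.open_eq_sUnion hU
  obtain ⟨t, ht⟩ := hUc.elim_finite_subcover (fun V : S => (V : Set X))
    (fun V => hB.isOpen (hS V.2)) (by rw [sUnion_eq_iUnion])
  rw [show ⋃₀ S = ⋃ V ∈ t, (V : Set X) from subset_antisymm ht
    (iUnion₂_subset fun V _ => subset_sUnion_of_mem V.2)]
  exact @Set.Finite.isClosed_biUnion X _ τ _ _ t.finite_toSet fun V _ => hcl V (hS V.2)

end Groth.Agent.SpecTop.Gen
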