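import Mathlib

/-!
# Spectral spaces and their constructible topology

Includes a criterion for spectrality: a T0 space with a finer compact topology and an open basis
whose members are clopen for the finer topology is spectral.
-/

set_option autoImplicit false

open Set Topology TopologicalSpace

namespace Groth.Agent.SpecTop.Cons

/-- directed families of closed sets in a compact topology given as a term -/
theorem exists_mem_forall {X : Type*} (τ : TopologicalSpace X) (hc : @CompactSpace X τ) {ι : Type*}
    [Nonempty ι] (t : ι → Set X) (hd : ∀ i j, ∃ k, t k ⊆ t i ∩ t j) (hne : ∀ i, (t i).Nonempty)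
    (hcl : ∀ i, IsClosed[τ] (t i)) : ∃ x, ∀ i, x ∈ t i := by
  letI := τ
  obtain ⟨x, hx⟩ := IsCompact.nonempty_iInter_of_directed_nonempty_isCompact_isClosed t
    (fun i j => let ⟨k, hk⟩ := hd i j; ⟨k, hk.trans inter_subset_left, hk.trans inter_subset_right⟩)
    hne (fun i => (hcl i).isCompact) hcl
  exact ⟨x, mem_iInter.mp hx⟩

/-- finitely many closed sets with empty intersection -/
theorem exists_finset_eq_empty {X : Type*} (τ : TopologicalSpace X) (hc : @CompactSpace X τ)
    {ι : Type*} (t : ι → Set X) (hcl : ∀ i, IsClosed[τ] (t i)) (h : ∀ x, ∃ i, x ∉ t i) :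
    ∃ s : Finset ι, ∀ x, ∃ i ∈ s, x ∉ t i := by
  letI := τ
  obtain ⟨s, hs⟩ := isCompact_univ.elim_finite_subfamily_closed t hcl (by
    ext x; simpa using h x)
  refine ⟨s, fun x => ?_⟩
  by_contra hx
  push Not at hx
  exact (eq_empty_iff_forall_notMem.mp hs x) ⟨mem_univ x, mem_iInter₂.mpr hx⟩

theorem isCompact_of_isClosed {X : Type*} {τ : TopologicalSpace X} [tX : TopologicalSpace X] (hc : @CompactSpace X τ) (hle : τ ≤ tX)
    {E : Set X} (hE : IsClosed[τ] E) : IsCompact E := by
  have h := @IsClosed.isCompact X τ E hc hE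
  simpa using @IsCompact.image X X τ tX E id h (continuous_id_iff_le.mpr hle)

theorem isClosed_sdiff {X : Type*} {τ : TopologicalSpace X} {s t : Set X} (hs : IsClosed[τ] s)
    (ht : IsOpen[τ] t) : IsClosed[τ] (s \ t) := by
  letI := τ; exact hs.sdiff ht

theorem le_of_basis {X : Type*} {τ : TopologicalSpace X} [tX : TopologicalSpace X] {B : Set (Set X)} (hB : IsTopologicalBasis B)
    (h : ∀ U ∈ B, IsOpen[τ] U) : τ ≤ tX := by
  rw [hB.eq_generateFrom]; exact le_generateFrom h

/-- **Criterion**: `τ` compact, finer, with an open basis of `τ`-clopen sets. -/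
theorem spectralSpace_of_finer {X : Type*} (τ : TopologicalSpace X) [tX : TopologicalSpace X] [T0Space X]
    (hc : @CompactSpace X τ)
    {B : Set (Set X)} (hB : IsTopologicalBasis B) (ho : ∀ U ∈ B, IsOpen[τ] U)
    (hcl : ∀ U ∈ B, IsClosed[τ] U) : SpectralSpace X := by
  have hle := le_of_basis hB ho
  have hqc : ∀ U : Set X, IsOpen U → IsCompact U → IsClosed[τ] U := by
    intro U hU hUc
    obtain ⟨S, hSB, rfl⟩ := hB.open_eq_sUnion hU
    obtain ⟨t, ht⟩ := hUc.elim_finite_subcover (fun V : S => (V : Set X))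
      (fun V => hB.isOpen (hSB V.2)) (by rw [sUnion_eq_iUnion])
    have : ⋃₀ S = ⋃ V ∈ t, (V : Set X) := subset_antisymm ht
      (iUnion₂_subset fun V _ => subset_sUnion_of_mem V.2)
    rw [this]
    letI := τ
    exact isClosed_biUnion_finset fun V _ => hcl V (hSB V.2)
  haveI : CompactSpace X := ⟨isCompact_of_isClosed hc hle (by letI := τ; exact isClosed_univ)⟩
  haveI : QuasiSeparatedSpace X := ⟨fun U V hU hU' hV hV' => isCompact_of_isClosed hc hle
    (by letI := τ; exact (hqc U hU hU').inter (hqc V hV hV'))⟩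
  haveI : PrespectralSpace X :=
    .of_isTopologicalBasis hB fun U hU => isCompact_of_isClosed hc hle (hcl U hU)
  haveI : QuasiSober X := by
    refine ⟨fun {Z} hZ hZc => ?_⟩
    have hZτ : IsClosed[τ] Z := by
      letI := τ; exact ⟨hle _ hZc.isOpen_compl⟩
    let ι := {s : Finset (Set X) // ∀ U ∈ s, IsOpen U ∧ IsClosed[τ] U ∧ (Z ∩ U).Nonempty}
    haveI : Nonempty ι := ⟨⟨∅, by simp⟩⟩
    classical
    refine Exists.elim (exists_mem_forall τ hc (fun s : ι => Z ∩ ⋂ U ∈ s.1, U) (fun s t => ?_)
      (fun s => ?_) (fun s => ?_)) fun x hx => ?_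
    · refine ⟨⟨s.1 ∪ t.1, fun U hU => (Finset.mem_union.mp hU).elim (s.2 U) (t.2 U)⟩, ?_⟩
      intro y hy
      simp only [mem_inter_iff, mem_iInter, Finset.mem_union] at hy ⊢
      exact ⟨⟨hy.1, fun U hU => hy.2 U (.inl hU)⟩, hy.1, fun U hU => hy.2 U (.inr hU)⟩
    · have := isIrreducible_iff_sInter.mp hZ s.1 (fun U hU => (s.2 U hU).1) (fun U hU => (s.2 U hU).2.2)
      simpa [sInter_eq_biInter] using this
    · letI := τ
      exact hZτ.inter (isClosed_biInter fun U hU => (s.2 U hU).2.1)
    · refine ⟨x, subset_antisymm ?_ fun z hz => ?_⟩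
      · exact closure_minimal (singleton_subset_iff.mpr (hx ⟨∅, by simp⟩).1) hZc
      · rw [hB.mem_closure_iff]
        intro U hU hzU
        refine ⟨x, ?_, rfl⟩
        have := (hx ⟨{U}, by simpa using ⟨hB.isOpen hU, hcl U hU, z, hz, hzU⟩⟩).2
        simpa using this
  exact ⟨⟩

section Spectral

variable {X : Type*} [tX : TopologicalSpace X] [hX : SpectralSpace X]

theorem exists_qcOpen {x : X} {W : Set X} (hW : IsOpen W) (hx : x ∈ W) :
    ∃ U, IsOpen U ∧ IsCompact U ∧ x ∈ U ∧ U ⊆ W := by
  obtain ⟨U, hU, hxU, hUW⟩ :=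
    PrespectralSpace.isTopologicalBasis.exists_subset_of_mem_open hx hW
  exact ⟨U, hU.1, hU.2, hxU, hUW⟩

theorem isBasis : IsTopologicalBasis {U : Set X | IsOpen U ∧ IsCompact U} :=
  PrespectralSpace.isTopologicalBasis

theorem isOpen_cons {U : Set X} (ho : IsOpen U) (hc : IsCompact U) :
    IsOpen[constructibleTopology X] U :=
  hc.isOpen_constructibleTopology_of_isOpen ho

theorem isClosed_cons {U : Set X} (ho : IsOpen U) (hc : IsCompact U) :
    IsClosed[constructibleTopology X] U := by
  refine @IsClosed.mk X (constructibleTopology X) _ ?_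
  exact IsCompact.isOpen_constructibleTopology_of_isClosed (by rwa [compl_compl]) ho.isClosed_compl

theorem cons_le : constructibleTopology X ≤ tX :=
  le_of_basis isBasis fun _ hU => isOpen_cons hU.1 hU.2

theorem isClosed_cons_of_isClosed {E : Set X} (hE : IsClosed E) :
    IsClosed[constructibleTopology X] E :=
  @IsClosed.mk X (constructibleTopology X) _ (cons_le _ hE.isOpen_compl)

theorem cons_compact : @CompactSpace X (constructibleTopology X) :=
  @CompactSpace.mk X (constructibleTopology X) (by
    have h := @IsCompact.image (WithConstructibleTopology X) X _ (constructibleTopology X)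
      Set.univ _ isCompact_univ (WithTopology.continuous_ofTopology _)
    rwa [Set.image_univ, (WithTopology.ofTopology_surjective _).range_eq] at h)

theorem isCompact_of_isClosed_cons {E : Set X} (hE : IsClosed[constructibleTopology X] E) :
    IsCompact E :=
  isCompact_of_isClosed cons_compact cons_le hE

theorem exists_qcOpen_xor {x y : X} (h : x ≠ y) :
    ∃ U, IsOpen U ∧ IsCompact U ∧ (x ∈ U ↔ y ∉ U) := by
  obtain ⟨W, hW, hWm⟩ := exists_isOpen_xor_mem h
  rcases hWm with ⟨hx, hy⟩ | ⟨hy, hx⟩
  · obtain ⟨U, h1, h2, h3, h4⟩ := exists_qcOpen hW hx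
    exact ⟨U, h1, h2, iff_of_true h3 fun h => hy (h4 h)⟩
  · obtain ⟨U, h1, h2, h3, h4⟩ := exists_qcOpen hW hy
    exact ⟨U, h1, h2, iff_of_false (fun h => hx (h4 h)) (not_not.mpr h3)⟩

theorem cons_totallySeparated : @TotallySeparatedSpace X (constructibleTopology X) := by
  letI τ := constructibleTopology X
  rw [totallySeparatedSpace_iff_exists_isClopen]
  intro x y h
  obtain ⟨U, h1, h2, h3⟩ := @exists_qcOpen_xor X tX hX x y h
  have hU : IsClopen U := ⟨@isClosed_cons X tX hX U h1 h2, @isOpen_cons X tX hX U h1 h2⟩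
  by_cases hx : x ∈ U
  · exact ⟨U, hU, hx, h3.mp hx⟩
  · exact ⟨Uᶜ, hU.compl, hx, fun hy => hx (h3.mpr hy)⟩

theorem cons_t2 : @T2Space X (constructibleTopology X) := by
  letI τ := constructibleTopology X
  haveI := @cons_totallySeparated X tX hX
  infer_instance

/-- a compact topology in which qc opens are clopen is the constructible topology -/
theorem cons_eq {X : Type*} (τ : TopologicalSpace X) [tX : TopologicalSpace X] [hX : SpectralSpace X] (hc : @CompactSpace X τ)
    (h : ∀ U, IsOpen U → IsCompact U → IsOpen[τ] U ∧ IsClosed[τ] U) :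
    constructibleTopology X = τ := by
  have hle : τ ≤ constructibleTopology X := le_generateFrom fun s hs => by
    rcases hs with ⟨ho, hco⟩ | ⟨hcl, hco⟩
    · exact (h s ho hco).1
    · simpa using @IsClosed.isOpen_compl X τ _ (h _ hcl.isOpen_compl hco).2
  refine le_antisymm (fun s hs => ?_) hle
  have h1 := @IsClosed.isCompact X τ sᶜ hc (@isClosed_compl_iff X τ s |>.mpr hs)
  have h2 := @IsCompact.image X X τ (constructibleTopology X) _ id h1 (continuous_id_iff_le.mpr hle)
  rw [image_id] at h2
  simpa using @IsClosed.isOpen_compl X (constructibleTopology X) _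
    (@IsCompact.isClosed X (constructibleTopology X) cons_t2 _ h2)

/-- points in the closure of a constructibly closed set are specialisations of its points -/
theorem exists_specializes {E : Set X} (hE : IsClosed[constructibleTopology X] E) {x : X}
    (hx : x ∈ closure E) : ∃ e ∈ E, e ⤳ x := by
  let ι := {U : Set X // IsOpen U ∧ IsCompact U ∧ x ∈ U}
  haveI : Nonempty ι := ⟨⟨univ, isOpen_univ, isCompact_univ, trivial⟩⟩
  refine Exists.elim (exists_mem_forall _ cons_compact (fun U : ι => E ∩ U.1) (fun U V => ?_)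
    (fun U => ?_) (fun U => ?_)) fun e he => ?_
  · exact ⟨⟨U.1 ∩ V.1, U.2.1.inter V.2.1, U.2.2.1.inter_of_isOpen V.2.2.1 U.2.1 V.2.1, U.2.2.2, V.2.2.2⟩,
      fun y hy => ⟨⟨hy.1, hy.2.1⟩, hy.1, hy.2.2⟩⟩
  · rw [inter_comm]; exact mem_closure_iff.mp hx U.1 U.2.1 U.2.2.2
  · letI := constructibleTopology X
    exact hE.inter (@isClosed_cons X tX hX U.1 U.2.1 U.2.2.1)
  · refine ⟨e, (he (Classical.arbitrary ι)).1, ?_⟩
    rw [specializes_iff_forall_open]
    intro W hW hxW
    obtain ⟨U, h1, h2, h3, h4⟩ := exists_qcOpen hW hxW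
    exact h4 (he ⟨U, h1, h2, h3⟩).2

theorem isClosed_of_specialization {E : Set X} (hE : IsClosed[constructibleTopology X] E)
    (hs : StableUnderSpecialization E) : IsClosed E :=
  isClosed_of_closure_subset fun _ hx => let ⟨_, he, h⟩ := exists_specializes hE hx; hs h he

theorem isOpen_of_generalization {E : Set X} (hE : IsOpen[constructibleTopology X] E)
    (hs : StableUnderGeneralization E) : IsOpen E :=
  isClosed_compl_iff.mp (isClosed_of_specialization
    (by letI := constructibleTopology X; exact hE.isClosed_compl) hs.compl)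

/-- constructibly closed subspaces are spectral -/
theorem spectralSpace_subtype {E : Set X} (hE : IsClosed[constructibleTopology X] E) :
    SpectralSpace E := by
  refine spectralSpace_of_finer (X := E) (TopologicalSpace.induced Subtype.val (constructibleTopology X)) ?_
    (isBasis.isInducing (f := ((↑) : E → X)) IsInducing.subtypeVal) ?_ ?_
  · exact (@isCompact_iff_compactSpace X (constructibleTopology X) E).mp
      (@IsClosed.isCompact X (constructibleTopology X) E cons_compact hE)
  · rintro _ ⟨U, hU, rfl⟩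
    exact ⟨U, isOpen_cons hU.1 hU.2, rfl⟩
  · rintro _ ⟨U, hU, rfl⟩
    letI := constructibleTopology X
    exact (@isClosed_cons X tX hX U hU.1 hU.2).preimage continuous_subtype_val

theorem isOpen_cons_of_isConstructible {E : Set X} (h : IsConstructible E) :
    IsOpen[constructibleTopology X] E ∧ IsClosed[constructibleTopology X] E := by
  induction h using IsConstructible.empty_union_induction with
  | open_retrocompact U hU hUc => exact ⟨isOpen_cons hU hUc.isCompact, isClosed_cons hU hUc.isCompact⟩
  | union s _ t _ hs ht => letI := constructibleTopology X; exact ⟨hs.1.union ht.1, hs.2.union ht.2⟩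
  | compl s _ hs => letI := constructibleTopology X; exact ⟨hs.2.isOpen_compl, hs.1.isClosed_compl⟩

theorem exists_isConstructible_mem {s : Set X} (hs : IsOpen[constructibleTopology X] s) :
    ∀ x ∈ s, ∃ C, IsConstructible C ∧ x ∈ C ∧ C ⊆ s := by
  induction hs with
  | basic s hs =>
    intro x hx
    refine ⟨s, ?_, hx, subset_rfl⟩
    rcases hs with ⟨ho, hc⟩ | ⟨hcl, hc⟩
    · exact hc.isConstructible ho
    · exact (hc.isConstructible hcl.isOpen_compl).of_compl
  | univ => exact fun x hx => ⟨_, IsConstructible.univ, hx, subset_rfl⟩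
  | inter s t _ _ ihs iht =>
    intro x hx
    obtain ⟨C, hC, hxC, hCs⟩ := ihs x hx.1
    obtain ⟨C', hC', hxC', hC't⟩ := iht x hx.2
    exact ⟨C ∩ C', hC.inter hC', ⟨hxC, hxC'⟩, inter_subset_inter hCs hC't⟩
  | sUnion S _ ih =>
    intro x ⟨t, ht, hxt⟩
    obtain ⟨C, hC, hxC, hCt⟩ := ih t ht x hxt
    exact ⟨C, hC, hxC, hCt.trans (subset_sUnion_of_mem ht)⟩

theorem isConstructible_of_clopen {s : Set X} (ho : IsOpen[constructibleTopology X] s)
    (hc : IsClosed[constructibleTopology X] s) : IsConstructible s := by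
  choose! C hC hxC hCs using exists_isConstructible_mem ho
  obtain ⟨t, hts, ht⟩ := @IsCompact.elim_nhds_subcover X (constructibleTopology X) s
    (@IsClosed.isCompact X (constructibleTopology X) _ cons_compact hc) C
    fun x hx => @IsOpen.mem_nhds X (constructibleTopology X) _ _
      (isOpen_cons_of_isConstructible (hC x hx)).1 (hxC x hx)
  have : s = ⋃ x ∈ (t : Set X), C x :=
    subset_antisymm ht (iUnion₂_subset fun x hx => hCs x (hts x hx))
  rw [this]
  exact .biUnion t.finite_toSet fun x hx => hC x (hts x hx)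

end Spectral

/-- finite sober T0 spaces are spectral, with discrete constructible topology -/
theorem spectralSpace_of_finite (X : Type*) [TopologicalSpace X] [T0Space X] [Finite X] :
    SpectralSpace X :=
  spectralSpace_of_finer ⊥ (@Finite.compactSpace X ⊥ _)
    TopologicalSpace.isTopologicalBasis_opens (fun U _ => trivial) (fun U _ => @IsClosed.mk X ⊥ _ trivial)

theorem continuous_cons {X Y : Type*} [TopologicalSpace X] [TopologicalSpace Y] {f : X → Y}
    (hf : IsSpectralMap f) : @Continuous X Y (constructibleTopology X) (constructibleTopology Y) f := by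
  refine continuous_generateFrom_iff.mpr fun s hs => isOpen_generateFrom_of_mem ?_
  rcases hs with ⟨ho, hc⟩ | ⟨hcl, hc⟩
  · exact Or.inl ⟨ho.preimage hf.continuous, hc.preimage_of_isOpen hf ho⟩
  · exact Or.inr ⟨hcl.preimage hf.continuous, hc.preimage_of_isOpen hf hcl.isOpen_compl⟩

end Groth.Agent.SpecTop.Cons
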