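import Groth.Agent.SpecTop.Cons

/-! Limits of spectral spaces along spectral maps. -/

set_option autoImplicit false

open Set Topology TopologicalSpace CategoryTheory CategoryTheory.Limits

namespace Groth.Agent.SpecTop.Lim

open Groth.Agent.SpecTop.Cons

universe u

variable {J : Type u} [SmallCategory J] {F : J ⥤ TopCat.{u}} (c : Cone F)

/-- the map to the product -/
def toPi (x : c.pt) (j : J) : F.obj j := c.π.app j x

theorem π_comp {i j : J} (a : i ⟶ j) (x : c.pt) : F.map a (c.π.app i x) = c.π.app j x :=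
  congr($(c.w a) x)

theorem preimage_map {i j : J} (a : i ⟶ j) (s : Set (F.obj j)) :
    c.π.app i ⁻¹' (F.map a ⁻¹' s) = c.π.app j ⁻¹' s := by
  ext x; simp only [mem_preimage, π_comp]

/-- the topology induced by the constructible topologies -/
@[instance_reducible]
def limCons : TopologicalSpace c.pt :=
  .induced (toPi c) (@Pi.topologicalSpace J (fun j => F.obj j) fun j => constructibleTopology (F.obj j))

theorem isEmbedding_toPi (hc : IsLimit c) : IsEmbedding (toPi c) ∧
    range (toPi c) = {u | ∀ {i j : J} (a : i ⟶ j), F.map a (u i) = u j} := by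
  let e := TopCat.homeoOfIso (hc.conePointUniqueUpToIso (TopCat.limitConeIsLimit F))
  have h : toPi c = Subtype.val ∘ e := by
    funext x j
    exact congr($(hc.conePointUniqueUpToIso_hom_comp (TopCat.limitConeIsLimit F) j) x).symm
  refine ⟨by rw [h]; exact IsEmbedding.subtypeVal.comp e.isEmbedding, ?_⟩
  ext u
  refine ⟨?_, fun hu => ?_⟩
  · rintro ⟨x, rfl⟩ i j a
    exact π_comp c a x
  · obtain ⟨x, hx⟩ := e.surjective ⟨u, hu⟩
    exact ⟨x, (congrFun h x).trans (congrArg Subtype.val hx)⟩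

theorem continuous_π_cons (j : J) :
    @Continuous c.pt (F.obj j) (limCons c) (constructibleTopology (F.obj j)) (c.π.app j) := by
  exact continuous_iff_le_induced.mpr ((induced_mono (iInf_le _ j)).trans induced_compose.le)

section

variable (hc : IsLimit c) (hF : ∀ j, SpectralSpace (F.obj j))
  (hFm : ∀ {i j : J} (a : i ⟶ j), IsSpectralMap (F.map a : F.obj i → F.obj j))

include hc hF hFm

theorem limCons_compact : @CompactSpace c.pt (limCons c) := by
  have hr := (isEmbedding_toPi c hc).2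
  letI τs : ∀ j, TopologicalSpace (F.obj j) := fun j => constructibleTopology (F.obj j)
  haveI : ∀ j, T2Space (F.obj j) := fun j => @cons_t2 _ (F.obj j).str (hF j)
  haveI : ∀ j, CompactSpace (F.obj j) := fun j => @cons_compact _ (F.obj j).str (hF j)
  letI := limCons c
  have hind : IsInducing (toPi c) := ⟨rfl⟩
  have hcl : IsClosed (range (toPi c)) := by
    rw [hr, show {u : ∀ j, F.obj j | ∀ {i j : J} (a : i ⟶ j), F.map a (u i) = u j} =
      ⋂ (i : J) (j : J) (a : i ⟶ j), {u : ∀ j, F.obj j | F.map a (u i) = u j} by ext; simp]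
    exact isClosed_iInter fun i => isClosed_iInter fun j => isClosed_iInter fun a =>
      isClosed_eq ((@continuous_cons _ _ (F.obj i).str (F.obj j).str _ (hFm a)).comp (continuous_apply i)) (continuous_apply j)
  exact ⟨hind.isCompact_iff.mpr (by rw [image_univ]; exact hcl.isCompact)⟩

theorem limCons_le : limCons c ≤ c.pt.str := by
  rw [show c.pt.str = .induced (toPi c) Pi.topologicalSpace from (isEmbedding_toPi c hc).1.eq_induced]
  exact induced_mono (le_iInf fun j => (iInf_le _ j).trans (induced_mono (@cons_le _ _ (hF j))))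

/-- closed conditions cut out quasi-compact subsets -/
theorem isCompact_forall_mem (Z : ∀ j, Set (F.obj j))
    (hZ : ∀ j, IsClosed[constructibleTopology (F.obj j)] (Z j)) :
    IsCompact {x : c.pt | ∀ j, c.π.app j x ∈ Z j} := by
  refine isCompact_of_isClosed (limCons_compact c hc hF hFm) (limCons_le c hc hF hFm) ?_
  rw [show {x : c.pt | ∀ j, c.π.app j x ∈ Z j} = ⋂ j, c.π.app j ⁻¹' Z j by ext; simp]
  exact @isClosed_iInter c.pt J (limCons c) _ fun j =>
    @IsClosed.preimage c.pt (F.obj j) (limCons c) (constructibleTopology _) _ (continuous_π_cons c j) _ (hZ j)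

theorem compactSpace : CompactSpace c.pt :=
  ⟨isCompact_of_isClosed (limCons_compact c hc hF hFm) (limCons_le c hc hF hFm)
    (@isClosed_univ c.pt (limCons c))⟩

variable [IsCofiltered J]

theorem isBasis : IsTopologicalBasis
    {U : Set c.pt | ∃ (j : J) (V : Set (F.obj j)), IsOpen V ∧ IsCompact V ∧ U = c.π.app j ⁻¹' V} := by
  have := TopCat.isTopologicalBasis_cofiltered_limit F c hc
    (fun j => {V : Set (F.obj j) | IsOpen V ∧ IsCompact V})
    (fun j => @Cons.isBasis _ _ (hF j)) (fun j => ⟨isOpen_univ, (hF j).toCompactSpace.isCompact_univ⟩)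
    (fun j U V hU hV => ⟨hU.1.inter hV.1,
      haveI := hF j; hU.2.inter_of_isOpen hV.2 hU.1 hV.1⟩)
    (fun i j a V hV => ⟨hV.1.preimage (F.map a).hom.continuous, hV.2.preimage_of_isOpen (hFm a) hV.1⟩)
  convert this using 1
  ext U
  exact ⟨fun ⟨j, V, h1, h2, h3⟩ => ⟨j, V, ⟨h1, h2⟩, h3⟩, fun ⟨j, V, ⟨h1, h2⟩, h3⟩ => ⟨j, V, h1, h2, h3⟩⟩

theorem clopen_preimage {j : J} {V : Set (F.obj j)}
    (ho : IsOpen[constructibleTopology (F.obj j)] V) (hcl : IsClosed[constructibleTopology (F.obj j)] V) :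
    IsOpen[limCons c] (c.π.app j ⁻¹' V) ∧ IsClosed[limCons c] (c.π.app j ⁻¹' V) :=
  ⟨@IsOpen.preimage c.pt (F.obj j) (limCons c) (constructibleTopology _) _ (continuous_π_cons c j) _ ho,
    @IsClosed.preimage c.pt (F.obj j) (limCons c) (constructibleTopology _) _ (continuous_π_cons c j) _ hcl⟩

theorem basis_clopen {U : Set c.pt}
    (hU : ∃ (j : J) (V : Set (F.obj j)), IsOpen V ∧ IsCompact V ∧ U = c.π.app j ⁻¹' V) :
    IsOpen[limCons c] U ∧ IsClosed[limCons c] U := by
  obtain ⟨j, V, h1, h2, rfl⟩ := hU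
  exact clopen_preimage c hc hF hFm (@isOpen_cons _ _ (hF j) _ h1 h2) (@isClosed_cons _ _ (hF j) _ h1 h2)

theorem spectralSpace : SpectralSpace c.pt := by
  haveI : ∀ j, T0Space (F.obj j) := fun j => (hF j).toT0Space
  haveI : T0Space c.pt := (isEmbedding_toPi c hc).1.t0Space
  exact spectralSpace_of_finer (limCons c) (limCons_compact c hc hF hFm) (isBasis c hc hF hFm)
    (fun U hU => (basis_clopen c hc hF hFm hU).1) (fun U hU => (basis_clopen c hc hF hFm hU).2)

theorem isSpectralMap_π (j : J) : IsSpectralMap (c.π.app j : c.pt → F.obj j) :=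
  ⟨(c.π.app j).hom.continuous, fun V hV hVc =>
    isCompact_of_isClosed (limCons_compact c hc hF hFm) (limCons_le c hc hF hFm)
      (basis_clopen c hc hF hFm ⟨j, V, hV, hVc, rfl⟩).2⟩

theorem cons_eq_limCons : constructibleTopology c.pt = limCons c := by
  haveI := spectralSpace c hc hF hFm
  refine cons_eq (limCons c) (limCons_compact c hc hF hFm) fun U ho hcU =>
    ⟨limCons_le c hc hF hFm _ ho, ?_⟩
  have hsp : ∀ j, IsSpectralMap (c.π.app j : c.pt → F.obj j) := isSpectralMap_π c hc hF hFm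
  obtain ⟨S, hS, rfl⟩ := (isBasis c hc hF hFm).open_eq_sUnion ho
  obtain ⟨t, ht⟩ := hcU.elim_finite_subcover (fun V : S => (V : Set c.pt))
    (fun V => (isBasis c hc hF hFm).isOpen (hS V.2)) (by rw [sUnion_eq_iUnion])
  rw [show ⋃₀ S = ⋃ V ∈ t, (V : Set c.pt) from subset_antisymm ht
    (iUnion₂_subset fun V _ => subset_sUnion_of_mem V.2)]
  letI := limCons c
  exact isClosed_biUnion_finset fun V _ => (basis_clopen c hc hF hFm (hS V.2)).2

/-- compatible families of nonempty constructibly closed sets have a common point -/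
theorem exists_forall_mem (Z : ∀ j, Set (F.obj j)) (hne : ∀ j, (Z j).Nonempty)
    (hZ : ∀ j, IsClosed[constructibleTopology (F.obj j)] (Z j))
    (hmap : ∀ {i j : J} (a : i ⟶ j), MapsTo (F.map a) (Z i) (Z j)) :
    ∃ x : c.pt, ∀ j, c.π.app j x ∈ Z j := by
  classical
  have hr := (isEmbedding_toPi c hc).2
  choose z hz using hne
  letI τs : ∀ j, TopologicalSpace (F.obj j) := fun j => constructibleTopology (F.obj j)
  haveI : ∀ j, T2Space (F.obj j) := fun j => @cons_t2 _ (F.obj j).str (hF j)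
  haveI : ∀ j, CompactSpace (F.obj j) := fun j => @cons_compact _ (F.obj j).str (hF j)
  let C : Finset (Σ' (i j : J), i ⟶ j) → Set (∀ j, F.obj j) := fun S =>
    {u | (∀ j, u j ∈ Z j) ∧ ∀ a ∈ S, F.map a.2.2 (u a.1) = u a.2.1}
  refine Exists.elim (exists_mem_forall _ inferInstance C (fun S T => ⟨S ∪ T, fun u hu =>
    ⟨⟨hu.1, fun a ha => hu.2 a (Finset.mem_union_left _ ha)⟩,
      hu.1, fun a ha => hu.2 a (Finset.mem_union_right _ ha)⟩⟩) (fun S => ?_) (fun S => ?_))
    fun u hu => ?_
  · let O : Finset J := S.image (fun a => a.1) ∪ S.image (fun a => a.2.1)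
    have h1 : ∀ a ∈ S, a.1 ∈ O := fun a ha =>
      Finset.mem_union_left _ (Finset.mem_image_of_mem (fun a : Σ' (i j : J), i ⟶ j => a.1) ha)
    have h2 : ∀ a ∈ S, a.2.1 ∈ O := fun a ha =>
      Finset.mem_union_right _ (Finset.mem_image_of_mem (fun a : Σ' (i j : J), i ⟶ j => a.2.1) ha)
    let H : Finset (Σ' (X Y : J) (_ : X ∈ O) (_ : Y ∈ O), X ⟶ Y) :=
      S.attach.image fun a => ⟨a.1.1, a.1.2.1, h1 _ a.2, h2 _ a.2, a.1.2.2⟩
    obtain ⟨k, T, hT⟩ := IsCofiltered.inf_exists O H
    refine ⟨fun m => if h : m ∈ O then F.map (T h) (z k) else z m, fun m => ?_, fun a ha => ?_⟩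
    · dsimp only
      split_ifs with h
      · exact hmap _ (hz k)
      · exact hz m
    · simp only [h1 a ha, h2 a ha, dif_pos]
      rw [← ConcreteCategory.comp_apply, ← F.map_comp,
        hT (h1 a ha) (h2 a ha) (Finset.mem_image.mpr ⟨⟨a, ha⟩, Finset.mem_attach _ _, rfl⟩)]
  · simp only [C, setOf_and, setOf_forall]
    exact (isClosed_iInter fun j => (hZ j).preimage (continuous_apply j)).inter
      (isClosed_biInter fun a _ =>
        isClosed_eq ((@continuous_cons _ _ (F.obj a.1).str (F.obj a.2.1).str _ (hFm a.2.2)).comp (continuous_apply a.1)) (continuous_apply a.2.1))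
  · obtain ⟨x, rfl⟩ : u ∈ range (toPi c) := by
      rw [hr]
      exact fun {i j} a => (hu {⟨i, j, a⟩}).2 _ (Finset.mem_singleton_self _)
    exact ⟨x, (hu ∅).1⟩

/-- a constructibly closed set invisible in the limit is invisible at some stage -/
theorem eventually_empty {i : J} {E : Set (F.obj i)}
    (hE : IsClosed[constructibleTopology (F.obj i)] E) (h : c.π.app i ⁻¹' E = ∅) :
    ∃ (j : J) (a : j ⟶ i), F.map a ⁻¹' E = ∅ := by
  classical
  by_contra hcon
  push Not at hcon
  have hcon' : ∀ (j : J) (a : j ⟶ i), (F.map a ⁻¹' E).Nonempty := hcon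
  have hcl : ∀ j (a : j ⟶ i), IsClosed[constructibleTopology (F.obj j)] (F.map a ⁻¹' E) := fun j a =>
    @IsClosed.preimage _ _ (constructibleTopology _) (constructibleTopology _) _
      (continuous_cons (hFm a)) _ hE
  refine Exists.elim (exists_forall_mem c hc hF hFm (fun j => ⋂ a : j ⟶ i, F.map a ⁻¹' E)
    (fun j => ?_) (fun j => @isClosed_iInter _ _ (constructibleTopology _) _ (hcl j))
    (fun {j k} b y hy => ?_))
    fun x hx => (eq_empty_iff_forall_notMem.mp h x) (by simpa using mem_iInter.mp (hx i) (𝟙 i))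
  · by_contra hne
    have hne' : ∀ y, ∃ a : j ⟶ i, y ∉ F.map a ⁻¹' E := fun y => by
      by_contra hy; push Not at hy; exact hne ⟨y, mem_iInter.mpr hy⟩
    obtain ⟨S, hS⟩ := exists_finset_eq_empty _ (@cons_compact _ _ (hF j))
      (fun a : j ⟶ i => F.map a ⁻¹' E) (hcl j) hne'
    let O : Finset J := {i, j}
    let H : Finset (Σ' (X Y : J) (_ : X ∈ O) (_ : Y ∈ O), X ⟶ Y) :=
      S.image fun a => ⟨j, i, by simp [O], by simp [O], a⟩
    obtain ⟨k, T, hT⟩ := IsCofiltered.inf_exists O H
    obtain ⟨y, hy⟩ := hcon' k (T (show i ∈ O by simp [O]))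
    obtain ⟨a, ha, hya⟩ := hS (F.map (T (show j ∈ O by simp [O])) y)
    apply hya
    rw [mem_preimage, ← ConcreteCategory.comp_apply, ← F.map_comp,
      hT (show j ∈ O by simp [O]) (show i ∈ O by simp [O]) (Finset.mem_image.mpr ⟨a, ha, rfl⟩)]
    exact hy
  · simp only [mem_iInter, mem_preimage] at hy ⊢
    intro a
    rw [← ConcreteCategory.comp_apply, ← F.map_comp]
    exact hy _

/-- inclusion of preimages in the limit is seen at a stage -/
theorem eventually_subset {i : J} {E F' : Set (F.obj i)}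
    (hE : IsClosed[constructibleTopology (F.obj i)] E) (hF' : IsOpen[constructibleTopology (F.obj i)] F')
    (h : c.π.app i ⁻¹' E ⊆ c.π.app i ⁻¹' F') : ∃ (j : J) (a : j ⟶ i), F.map a ⁻¹' E ⊆ F.map a ⁻¹' F' := by
  obtain ⟨j, a, ha⟩ := eventually_empty c hc hF hFm (isClosed_sdiff hE hF')
    (by rw [preimage_sdiff]; exact sdiff_eq_empty.mpr h)
  exact ⟨j, a, sdiff_eq_empty.mp (by rwa [preimage_sdiff] at ha)⟩

/-- finite unions of pulled back subsets are pulled back from one stage -/
theorem exists_common {ι : Type*} (P : ∀ j, Set (F.obj j) → Prop)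
    (hP : ∀ {i j : J} (a : i ⟶ j) (s), P j s → P i (F.map a ⁻¹' s))
    (hempty : ∀ j, P j ∅) (hunion : ∀ j s t, P j s → P j t → P j (s ∪ t))
    (t : Finset ι) (i : ι → J) (S : ∀ l, Set (F.obj (i l))) (hS : ∀ l ∈ t, P _ (S l)) :
    ∃ (k : J) (V : Set (F.obj k)), P k V ∧ c.π.app k ⁻¹' V = ⋃ l ∈ t, c.π.app (i l) ⁻¹' S l := by
  classical
  induction t using Finset.induction_on with
  | empty => exact ⟨IsCofiltered.nonempty.some, ∅, hempty _, by simp⟩
  | insert l t hl ih =>
    obtain ⟨k, V, hV, hVeq⟩ := ih fun m hm => hS m (Finset.mem_insert_of_mem hm)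
    refine ⟨IsCofiltered.min (i l) k, F.map (IsCofiltered.minToLeft (i l) k) ⁻¹' S l ∪
      F.map (IsCofiltered.minToRight (i l) k) ⁻¹' V,
      hunion _ _ _ (hP _ _ (hS l (Finset.mem_insert_self _ _))) (hP _ _ hV), ?_⟩
    rw [preimage_union, preimage_map, preimage_map, hVeq, Finset.set_biUnion_insert]

theorem exists_qcOpen_eq {U : Set c.pt} (hU : IsOpen U) (hUc : IsCompact U) :
    ∃ (k : J) (V : Set (F.obj k)), (IsOpen V ∧ IsCompact V) ∧ c.π.app k ⁻¹' V = U := by
  obtain ⟨S, hS, rfl⟩ := (isBasis c hc hF hFm).open_eq_sUnion hU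
  obtain ⟨t, ht⟩ := hUc.elim_finite_subcover (fun V : S => (V : Set c.pt))
    (fun V => (isBasis c hc hF hFm).isOpen (hS V.2)) (by rw [sUnion_eq_iUnion])
  choose i V h1 h2 h3 using fun W : S => hS W.2
  obtain ⟨k, V', hV', heq⟩ := exists_common c hc hF hFm (fun j s => IsOpen s ∧ IsCompact s)
    (fun a s hs => ⟨hs.1.preimage (F.map a).hom.continuous, hs.2.preimage_of_isOpen (hFm a) hs.1⟩)
    (fun _ => ⟨isOpen_empty, isCompact_empty⟩) (fun _ _ _ hs ht => ⟨hs.1.union ht.1, hs.2.union ht.2⟩)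
    t i V (fun l _ => ⟨h1 l, h2 l⟩)
  refine ⟨k, V', hV', heq.trans ?_⟩
  simp only [← h3]
  exact subset_antisymm (iUnion₂_subset fun W _ => subset_sUnion_of_mem W.2) ht

theorem exists_constructible_eq {E : Set c.pt} (ho : IsOpen[limCons c] E) (hcl : IsClosed[limCons c] E) :
    ∃ (k : J) (V : Set (F.obj k)), IsConstructible V ∧ c.π.app k ⁻¹' V = E := by
  classical
  haveI := hF
  have hpre : ∀ {i j : J} (a : i ⟶ j) (s : Set (F.obj j)), IsConstructible s →
      IsConstructible (F.map a ⁻¹' s) := fun {i j} a s hs =>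
    have h := @isOpen_cons_of_isConstructible _ _ (hF j) _ hs
    @isConstructible_of_clopen _ _ (hF i) _
      (@IsOpen.preimage _ _ (constructibleTopology _) (constructibleTopology _) _ (continuous_cons (hFm a)) _ h.1)
      (@IsClosed.preimage _ _ (constructibleTopology _) (constructibleTopology _) _ (continuous_cons (hFm a)) _ h.2)
  have key : ∀ x ∈ E, ∃ (i : J) (C : Set (F.obj i)), IsConstructible C ∧ c.π.app i x ∈ C ∧
      c.π.app i ⁻¹' C ⊆ E := by
    intro x hx
    obtain ⟨W, hW, rfl⟩ := ho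
    obtain ⟨I, w, hw, hsub⟩ := (@isOpen_pi_iff J _ (fun j => constructibleTopology (F.obj j)) W).mp hW _ hx
    choose C hC hxC hCw using fun j : I =>
      @exists_isConstructible_mem _ _ (hF j) _ (hw j j.2).1 _ (hw j j.2).2
    obtain ⟨k, hk⟩ := IsCofiltered.inf_objs_exists I
    refine ⟨k, ⋂ j : I, F.map (hk j.2).some ⁻¹' C j, .iInter fun j => hpre _ _ (hC j),
      mem_iInter.mpr fun j => ?_, fun y hy => hsub fun j hj => ?_⟩
    · rw [mem_preimage, π_comp]; exact hxC j
    · have := mem_iInter.mp hy ⟨j, hj⟩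
      rw [mem_preimage, π_comp] at this
      exact hCw ⟨j, hj⟩ this
  choose i C hC hxC hCE using fun x : E => key x x.2
  obtain ⟨t, ht⟩ := @IsCompact.elim_finite_subcover c.pt (limCons c) E E
    (@IsClosed.isCompact c.pt (limCons c) E (limCons_compact c hc hF hFm) hcl)
    (fun x : E => c.π.app (i x) ⁻¹' C x)
    (fun x => (clopen_preimage c hc hF hFm (@isOpen_cons_of_isConstructible _ _ (hF _) _ (hC x)).1
      (@isOpen_cons_of_isConstructible _ _ (hF _) _ (hC x)).2).1)
    (fun x hx => mem_iUnion.mpr ⟨⟨x, hx⟩, hxC _⟩)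
  obtain ⟨k, V, hV, heq⟩ := exists_common c hc hF hFm (fun _ s => IsConstructible s) hpre
    (fun _ => IsConstructible.empty) (fun _ _ _ hs ht => hs.union ht) t i C (fun l _ => hC l)
  exact ⟨k, V, hV, heq.trans (subset_antisymm (iUnion₂_subset fun x _ => hCE x) ht)⟩

end

end Groth.Agent.SpecTop.Lim
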